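import Groth.Agent.L14.GenSm.CIFitt

/-! # Modules presented by an injective Jacobian matrix -/

set_option autoImplicit false
set_option linter.style.haveILetI false
set_option backward.isDefEq.respectTransparency false

universe u v

open CategoryTheory Matrix

namespace Groth.L14.FormalCI

section Present

variable {B : Type u} [CommRing B] {M : Type u} [AddCommGroup M] [Module B M] {r c : ℕ}

/-- `Ext¹` of a module presented by an injective matrix is the cokernel of the transpose. -/
theorem exists_ext_equiv (x : Fin r → M) (J : Matrix (Fin c) (Fin r) B)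
    (hx : Submodule.span B (Set.range x) = ⊤)
    (hrel : Groth.L13.Fitting.rel (R := B) x = Submodule.span B (Set.range fun i => J i))
    (hinj : ∀ v : Fin c → B, v ᵥ* J = 0 → v = 0) :
    Nonempty (Abelian.Ext.{u} (ModuleCat.of B M) (ModuleCat.of B B) 1 ≃ₗ[B]
      (Fin c → B) ⧸ LinearMap.range J.mulVecLin) := by
  classical
  let f : (Fin c → B) →ₗ[B] (Fin r → B) := J.vecMulLinear
  let g : (Fin r → B) →ₗ[B] M := Fintype.linearCombination B x
  have hf : Function.Injective f := (injective_iff_map_eq_zero f).2 hinj
  have hg : Function.Surjective g := by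
    rw [← LinearMap.range_eq_top, Fintype.range_linearCombination, hx]
  have hfg : Function.Exact f g := by
    rw [LinearMap.exact_iff, range_vecMulLinear]
    exact hrel
  obtain ⟨e⟩ := Groth.L04.LC.nonempty_ext_one_equiv (A := B) f g hf hg hfg B
  let ev : ((Fin c → B) →ₗ[B] B) ≃ₗ[B] (Fin c → B) := LinearEquiv.piRing B B (Fin c) B
  refine ⟨e.trans (Submodule.Quotient.equiv _ _ ev ?_)⟩
  have key : ∀ h : (Fin r → B) →ₗ[B] B, ev (f.lcomp B B h) = J.mulVecLin (LinearEquiv.piRing B B (Fin r) B h) := by
    intro h
    funext i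
    rw [LinearEquiv.piRing_apply, LinearMap.lcomp_apply, Matrix.mulVecLin_apply]
    have h1 : f (Pi.single i 1) = ∑ j, J i j • Pi.single j (1 : B) := by
      rw [show f (Pi.single i 1) = Pi.single i 1 ᵥ* J from rfl, Matrix.single_one_vecMul]
      exact pi_eq_sum_univ' (J i)
    rw [h1, map_sum]
    simp only [map_smul, smul_eq_mul, Matrix.mulVec, dotProduct, LinearEquiv.piRing_apply]
  refine le_antisymm ?_ ?_
  · rintro _ ⟨_, ⟨h, rfl⟩, rfl⟩
    exact ⟨_, (key h).symm⟩
  · rintro _ ⟨w, rfl⟩
    refine ⟨_, ⟨(LinearEquiv.piRing B B (Fin r) B).symm w, rfl⟩, ?_⟩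
    refine (key _).trans ?_
    rw [LinearEquiv.apply_symm_apply]

/-- The two Fitting ideals of a module presented by an injective matrix. -/
theorem fitt_eq_fitt_ext (x : Fin r → M) (J : Matrix (Fin c) (Fin r) B)
    (hx : Submodule.span B (Set.range x) = ⊤)
    (hrel : Groth.L13.Fitting.rel (R := B) x = Submodule.span B (Set.range fun i => J i))
    (hinj : ∀ v : Fin c → B, v ᵥ* J = 0 → v = 0) :
    Fitt.ideal B M (r - c) =
      Fitt.ideal B (Abelian.Ext.{u} (ModuleCat.of B M) (ModuleCat.of B B) 1) 0 := by
  classical
  rcases subsingleton_or_nontrivial B with hB | hB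
  · exact Subsingleton.elim _ _
  have hcr : c ≤ r := by
    have h := LinearMap.finrank_le_finrank_of_injective (f := J.vecMulLinear)
      ((injective_iff_map_eq_zero J.vecMulLinear).2 hinj)
    rwa [Module.finrank_fintype_fun_eq_card, Module.finrank_fintype_fun_eq_card, Fintype.card_fin,
      Fintype.card_fin] at h
  obtain ⟨e⟩ := exists_ext_equiv x J hx hrel hinj
  let W := LinearMap.range J.mulVecLin
  let y : Fin c → Abelian.Ext.{u} (ModuleCat.of B M) (ModuleCat.of B B) 1 :=
    fun i => e.symm (W.mkQ (Pi.single i 1))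
  have hsum : ∀ z : Fin c → B, ∑ i, z i • y i = e.symm (W.mkQ z) := fun z => by
    conv_rhs => rw [pi_eq_sum_univ' z]
    simp only [y, map_sum, map_smul]
  have hy : Submodule.span B (Set.range y) = ⊤ := by
    refine eq_top_iff.2 fun z _ => ?_
    obtain ⟨w, hw⟩ := W.mkQ_surjective (e z)
    rw [Submodule.mem_span_range_iff_exists_fun]
    exact ⟨w, by rw [hsum, hw, e.symm_apply_apply]⟩
  have hry : Groth.L13.Fitting.rel (R := B) y = Submodule.span B (Set.range fun j => J.transpose j) := by
    ext z
    rw [Groth.L13.Fitting.mem_rel, hsum, LinearEquiv.map_eq_zero_iff, Submodule.mkQ_apply,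
      Submodule.Quotient.mk_eq_zero]
    show z ∈ LinearMap.range J.mulVecLin ↔ _
    rw [Matrix.range_mulVecLin]
    rfl
  rw [Groth.L14.GenSm.fitt_eq_detSpan x hx J hrel, Groth.L14.GenSm.fitt_eq_detSpan y hy J.transpose hry,
    Groth.L14.GenSm.detSpan_transpose, show r - (r - c) = c from by omega, Nat.sub_zero]

end Present

section Omega

open MvPolynomial

variable {R B : Type u} [CommRing R] [CommRing B] [Algebra R B] {r : ℕ}

/-- Chain rule. -/
theorem D_algHom (π : MvPolynomial (Fin r) R →ₐ[R] B) (p : MvPolynomial (Fin r) R) :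
    KaehlerDifferential.D R B (π p) =
      ∑ j, π (pderiv j p) • KaehlerDifferential.D R B (π (X j)) := by
  induction p using MvPolynomial.induction_on with
  | C a => rw [← algebraMap_eq, π.commutes, Derivation.map_algebraMap]; simp
  | add p q hp hq => simp only [map_add, add_smul, Finset.sum_add_distrib, hp, hq]
  | mul_X p i hp =>
    rw [map_mul, Derivation.leibniz, hp, Finset.smul_sum]
    have hj : ∀ j, π (pderiv j (p * X i)) • KaehlerDifferential.D R B (π (X j)) =
        π (X i) • π (pderiv j p) • KaehlerDifferential.D R B (π (X j)) +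
          if i = j then π p • KaehlerDifferential.D R B (π (X i)) else 0 := by
      intro j
      rw [pderiv_mul, pderiv_X, map_add, map_mul, map_mul, add_smul, mul_comm (π (pderiv j p)), mul_smul]
      congr 1
      rcases eq_or_ne i j with h | h
      · subst h; simp
      · simp [h]
    rw [Finset.sum_congr rfl fun j _ => hj j, Finset.sum_add_distrib, Finset.sum_ite_eq,
      if_pos (Finset.mem_univ i), add_comm]

theorem span_D_eq_top (π : MvPolynomial (Fin r) R →ₐ[R] B) (hπ : Function.Surjective π) :
    Submodule.span B (Set.range fun j => KaehlerDifferential.D R B (π (X j))) = ⊤ := by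
  rw [eq_top_iff, ← KaehlerDifferential.span_range_derivation, Submodule.span_le]
  rintro _ ⟨b, rfl⟩
  obtain ⟨p, rfl⟩ := hπ b
  rw [SetLike.mem_coe, D_algHom, Submodule.mem_span_range_iff_exists_fun]
  exact ⟨_, rfl⟩

/-- Relations among differentials of generators: the Jacobian rows of the equations. -/
theorem rel_D_eq (π : MvPolynomial (Fin r) R →ₐ[R] B) (hπ : Function.Surjective π) {ι : Type*}
    (g : ι → MvPolynomial (Fin r) R) (hker : RingHom.ker π.toRingHom = Ideal.span (Set.range g)) :
    Groth.L13.Fitting.rel (R := B) (fun j => KaehlerDifferential.D R B (π (X j))) =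
      Submodule.span B (Set.range fun i j => π (pderiv j (g i))) := by
  classical
  set W := Submodule.span B (Set.range fun i j => π (pderiv j (g i)))
  refine le_antisymm (fun z hz => ?_) (Submodule.span_le.2 ?_)
  · let d : MvPolynomial (Fin r) R → (Fin r → B) := fun p j => π (pderiv j p)
    have hd : ∀ p ∈ RingHom.ker π.toRingHom, W.mkQ (d p) = 0 := by
      intro p hp
      have hp' := hp
      rw [hker] at hp'
      rw [Submodule.mkQ_apply, Submodule.Quotient.mk_eq_zero]
      induction hp' using Submodule.span_induction with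
      | mem x hx => obtain ⟨i, rfl⟩ := hx; exact Submodule.subset_span ⟨i, rfl⟩
      | zero =>
        rw [show d 0 = 0 from funext fun j => by simp [d]]
        exact zero_mem _
      | add x y hx hy hx' hy' =>
        rw [show d (x + y) = d x + d y from funext fun j => by simp [d]]
        exact add_mem (hx' (hker.ge hx)) (hy' (hker.ge hy))
      | smul q x hx hx' =>
        have hx0 : π x = 0 := (hker.ge hx : x ∈ RingHom.ker π.toRingHom)
        rw [show d (q • x) = π q • d x from funext fun j => by
          simp [d, pderiv_mul, hx0]]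
        exact W.smul_mem _ (hx' (hker.ge hx))
    let s := Function.surjInv hπ
    have hs : ∀ b, π (s b) = b := Function.surjInv_eq hπ
    have hwd : ∀ p, W.mkQ (d (s (π p))) = W.mkQ (d p) := fun p => by
      have h1 := hd (s (π p) - p) (by rw [RingHom.mem_ker]; simp [hs])
      rw [show d (s (π p) - p) = d (s (π p)) - d p from funext fun j => by simp [d], map_sub, sub_eq_zero] at h1
      exact h1
    let Dlin : B →ₗ[R] (Fin r → B) ⧸ W :=
      { toFun := fun b => W.mkQ (d (s b))
        map_add' := fun a b => by
          conv_lhs => rw [← hs a, ← hs b, ← map_add, hwd]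
          rw [← map_add]
          exact congrArg _ (funext fun j => by simp [d])
        map_smul' := fun a b => by
          conv_lhs => rw [← hs b, ← map_smul, hwd]
          rw [RingHom.id_apply, ← LinearMap.map_smul_of_tower]
          exact congrArg _ (funext fun j => by simp [d]) }
    let Dv : Derivation R B ((Fin r → B) ⧸ W) := Derivation.mk' Dlin fun a b => by
      show W.mkQ (d (s (a * b))) = a • W.mkQ (d (s b)) + b • W.mkQ (d (s a))
      conv_lhs => rw [← hs a, ← hs b, ← map_mul, hwd]
      rw [← map_smul, ← map_smul, ← map_add]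
      refine congrArg _ (funext fun j => ?_)
      simp only [d, pderiv_mul, map_add, map_mul, hs, Pi.add_apply, Pi.smul_apply, smul_eq_mul]
      ring
    have hX : ∀ i, Dv (π (X i)) = W.mkQ (Pi.single i 1) := fun i => by
      show W.mkQ (d (s (π (X i)))) = _
      rw [hwd]
      refine congrArg _ (funext fun j => ?_)
      simp only [d, pderiv_X, Pi.single_apply]
      rcases eq_or_ne j i with h | h
      · subst h; simp
      · simp [h, h.symm]
    have h1 := congrArg Dv.liftKaehlerDifferential (Groth.L13.Fitting.mem_rel.1 hz)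
    simp only [map_sum, map_smul, Derivation.liftKaehlerDifferential_comp_D, hX, map_zero] at h1
    simp only [← map_smul, ← map_sum] at h1
    rw [← pi_eq_sum_univ' z, Submodule.mkQ_apply, Submodule.Quotient.mk_eq_zero] at h1
    exact h1
  · rintro _ ⟨i, rfl⟩
    rw [SetLike.mem_coe, Groth.L13.Fitting.mem_rel, ← D_algHom]
    have h0 : π (g i) = 0 := (hker.ge (Ideal.subset_span ⟨i, rfl⟩) : g i ∈ RingHom.ker π.toRingHom)
    rw [h0, map_zero]

end Omega

section Closed

open MvPolynomial

variable {k B : Type u} [Field k] [PerfectField k] [CommRing B] [Algebra k B] [IsReduced B] {r c : ℕ}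

/-- The Jacobian of a reduced complete intersection has independent rows. -/
theorem jacobian_injective (φ : MvPolynomial (Fin r) k →ₐ[k] B) (hφ : Function.Surjective φ)
    (a : Fin c → MvPolynomial (Fin r) k)
    (ha : RingTheory.Sequence.IsWeaklyRegular (MvPolynomial (Fin r) k) (List.ofFn a))
    (hker : RingHom.ker φ.toRingHom = Ideal.span (Set.range a))
    (v : Fin c → B) (hv : ∀ j, ∑ i, v i * φ (pderiv j (a i)) = 0) : v = 0 := by
  classical
  rcases subsingleton_or_nontrivial B with hB | hB
  · exact Subsingleton.elim _ _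
  haveI : Algebra.FiniteType k B := Algebra.FiniteType.of_surjective φ hφ
  let G := Groth.L14.NLAmp.gens φ hφ
  obtain ⟨bC⟩ := Groth.L14.GenSm.exists_basis_cotangent φ hφ a ha hker
  let f := G.toExtension.cotangentComplex
  have hfi : Function.Injective f := by
    rw [injective_iff_map_eq_zero]
    intro z hz
    refine bC.ext_elem fun i => ?_
    rw [map_zero, Finsupp.zero_apply]
    refine Groth.L14.GenSm.eq_zero_of_minimal _ fun p hp => ?_
    haveI : p.IsPrime := hp.1.1
    have hsm := Groth.L14.GenSm.mem_smoothLocus_of_minimal (k := k) (p := (⟨p, inferInstance⟩ : PrimeSpectrum B)) hp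
    rw [Algebra.smoothLocus_eq_compl_support_inter] at hsm
    obtain ⟨b, hb, hbz⟩ := Module.notMem_support_iff'.1 hsm.1 (G.equivH1Cotangent ⟨z, hz⟩)
    rw [← map_smul, LinearEquiv.map_eq_zero_iff] at hbz
    refine ⟨b, hb, ?_⟩
    have h0 : b • z = 0 := congrArg Subtype.val hbz
    rw [← smul_eq_mul, ← Finsupp.smul_apply, ← map_smul, h0, map_zero, Finsupp.zero_apply]
  choose w hw using fun i => hφ (v i)
  let p : MvPolynomial (Fin r) k := ∑ i, w i * a i
  have ha0 : ∀ i, φ (a i) = 0 := fun i => (hker.ge (Ideal.subset_span ⟨i, rfl⟩) : a i ∈ RingHom.ker φ.toRingHom)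
  have hk : G.toExtension.ker = RingHom.ker φ := by
    ext x
    show algebraMap G.toExtension.Ring B x = 0 ↔ φ x = 0
    rw [Groth.L14.NLAmp.algebraMap_gens φ hφ x]
  have hp : p ∈ G.toExtension.ker := by
    rw [hk, RingHom.mem_ker]
    simp [p, ha0]
  have hG : ∀ q, MvPolynomial.aeval G.val q = φ q := fun q => by
    show MvPolynomial.aeval (fun i => φ (X i)) q = φ q
    rw [show MvPolynomial.aeval (fun i => φ (X i)) = φ from MvPolynomial.algHom_ext (by simp)]
  have hz : Algebra.Extension.Cotangent.mk (P := G.toExtension) ⟨p, hp⟩ = 0 := by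
    refine hfi ?_
    rw [map_zero]
    show G.toExtension.cotangentComplex _ = _
    rw [Algebra.Extension.cotangentComplex_mk]
    refine G.cotangentSpaceBasis.ext_elem fun j => ?_
    rw [G.cotangentSpaceBasis_repr_one_tmul, hG, map_zero, Finsupp.zero_apply]
    simp [p, pderiv_mul, ha0, hw, hv j]
  rw [Algebra.Extension.Cotangent.mk_eq_zero_iff] at hz
  replace hz : p ∈ Ideal.span (Set.range a) ^ (1 + 1) := by
    have h2 : p ∈ G.toExtension.ker ^ 2 := hz
    rw [hk] at h2
    rw [← hker]
    exact h2
  have hq := Groth.L07.QReg.isQuasiRegular_of_isWeaklyRegular ha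
  funext i
  have h := hq 1 (∑ j, C (w j) * X j) (IsHomogeneous.sum _ _ _ fun j _ => (isHomogeneous_X _ j).C_mul _)
    (by simpa using hz) (Finsupp.single i 1)
  have h3 : w i ∈ RingHom.ker φ.toRingHom := by
    rw [hker]
    simpa [coeff_sum, coeff_C_mul, coeff_X', Finsupp.single_eq_single_iff, eq_comm] using h
  rw [Pi.zero_apply, ← hw i]
  exact h3

end Closed

end Groth.L14.FormalCI
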