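import Groth.Agent.L14.FormalCI.Basic
import Mathlib.RingTheory.AdicCompletion.Noetherian
import Mathlib.RingTheory.AdicCompletion.Algebra

/-! # Completed differentials of a formal presentation -/

set_option autoImplicit false
set_option linter.style.haveILetI false
set_option backward.isDefEq.respectTransparency false

universe u

open MvPolynomial Matrix

namespace Groth.L14.FormalCI

variable {R : Type u} [CommRing R] (t : R) {r c : ℕ}

/-- restricted power series -/
abbrev Rst (r : ℕ) : Type u :=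
  AdicCompletion (Ideal.span {C (σ := Fin r) t}) (MvPolynomial (Fin r) R)

theorem mem_pow_smul_top_iff {A : Type u} [CommRing A] (s : A) (n : ℕ) {M : Type u} [AddCommGroup M] [Module A M] (x : M) :
    x ∈ (Ideal.span {s} ^ n • ⊤ : Submodule A M) ↔ ∃ y, s ^ n • y = x := by
  rw [Ideal.span_singleton_pow, Submodule.ideal_span_singleton_smul, Submodule.mem_smul_pointwise_iff_exists]
  exact ⟨fun ⟨y, _, h⟩ => ⟨y, h⟩, fun ⟨y, h⟩ => ⟨y, trivial, h⟩⟩

theorem algebraMap_C_pow (n : ℕ) :
    algebraMap (MvPolynomial (Fin r) R) (Rst t r) (C t) ^ n = algebraMap R (Rst t r) t ^ n := by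
  exact (congrArg (· ^ n) (IsScalarTower.algebraMap_apply R (MvPolynomial (Fin r) R) (Rst t r) t)).symm

theorem mem_span_of_evalₐ_eq_zero {n : ℕ} {x : Rst t r} (hx : AdicCompletion.evalₐ _ n x = 0) :
    x ∈ Ideal.span {algebraMap R (Rst t r) t ^ n} := by
  have h1 : AdicCompletion.eval (Ideal.span {C (σ := Fin r) t}) (MvPolynomial (Fin r) R) n x = 0 := by
    rw [← AdicCompletion.factor_evalₐ_eq_eval _ x (le_of_eq (Ideal.mul_top _).symm), hx, map_zero]
  have h2 : x ∈ LinearMap.ker (AdicCompletion.eval (Ideal.span {C (σ := Fin r) t}) (MvPolynomial (Fin r) R) n) := h1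
  rw [← AdicCompletion.pow_smul_top_eq_ker_eval (Submodule.fg_span_singleton _), mem_pow_smul_top_iff] at h2
  obtain ⟨y, hy⟩ := h2
  refine Ideal.mem_span_singleton.2 ⟨y, ?_⟩
  rw [← hy, Algebra.smul_def, map_pow, algebraMap_C_pow]

theorem evalₐ_algebraMap (n : ℕ) (p : MvPolynomial (Fin r) R) :
    AdicCompletion.evalₐ (Ideal.span {C (σ := Fin r) t}) n (algebraMap _ (Rst t r) p) = Ideal.Quotient.mk _ p :=
  (AdicCompletion.evalₐ _ n).commutes p

theorem exists_rep (n : ℕ) (x : Rst t r) :
    ∃ p : MvPolynomial (Fin r) R, x - algebraMap _ (Rst t r) p ∈ Ideal.span {algebraMap R (Rst t r) t ^ n} := by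
  obtain ⟨p, hp⟩ := Ideal.Quotient.mk_surjective (AdicCompletion.evalₐ (Ideal.span {C (σ := Fin r) t}) n x)
  exact ⟨p, mem_span_of_evalₐ_eq_zero t (by rw [map_sub, evalₐ_algebraMap, hp, sub_self])⟩

theorem evalₐ_t_pow (n : ℕ) :
    AdicCompletion.evalₐ (Ideal.span {C (σ := Fin r) t}) n (algebraMap R (Rst t r) t ^ n) = 0 := by
  rw [← algebraMap_C_pow, ← map_pow, evalₐ_algebraMap, Ideal.Quotient.eq_zero_iff_mem]
  exact Ideal.pow_mem_pow (Ideal.mem_span_singleton_self _) n

variable {B : Type u} [CommRing B] [Algebra R B] (ψ : Rst t r →ₐ[R] B) (a : Fin c → Rst t r)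

/-- the map from polynomials -/
noncomputable def pol : MvPolynomial (Fin r) R →ₐ[R] B :=
  ψ.comp (IsScalarTower.toAlgHom R (MvPolynomial (Fin r) R) (Rst t r))

theorem pol_apply (p : MvPolynomial (Fin r) R) : pol t ψ p = ψ (algebraMap _ (Rst t r) p) := rfl

/-- representatives of the equations -/
noncomputable def rep (n : ℕ) (i : Fin c) : MvPolynomial (Fin r) R := (exists_rep t n (a i)).choose

theorem rep_spec (n : ℕ) (i : Fin c) :
    a i - algebraMap _ (Rst t r) (rep t a n i) ∈ Ideal.span {algebraMap R (Rst t r) t ^ n} :=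
  (exists_rep t n (a i)).choose_spec

theorem evalₐ_rep (n : ℕ) (i : Fin c) :
    AdicCompletion.evalₐ (Ideal.span {C (σ := Fin r) t}) n (a i) = Ideal.Quotient.mk _ (rep t a n i) := by
  obtain ⟨y, hy⟩ := Ideal.mem_span_singleton.1 (rep_spec t a n i)
  rw [← evalₐ_algebraMap t n (rep t a n i), ← sub_eq_zero, ← map_sub, hy, map_mul, evalₐ_t_pow, zero_mul]

theorem rep_compat {m n : ℕ} (h : m ≤ n) (i : Fin c) :
    ∃ q, rep t a n i - rep t a m i = C (t ^ m) * q := by
  obtain ⟨y, hy⟩ := Ideal.mem_span_singleton.1 (rep_spec t a n i)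
  obtain ⟨z, hz⟩ := Ideal.mem_span_singleton.1 (rep_spec t a m i)
  have h1 : AdicCompletion.evalₐ (Ideal.span {C (σ := Fin r) t}) m
      (algebraMap _ (Rst t r) (rep t a n i - rep t a m i)) = 0 := by
    have : algebraMap (MvPolynomial (Fin r) R) (Rst t r) (rep t a n i - rep t a m i) =
        algebraMap R (Rst t r) t ^ m * (z - algebraMap R (Rst t r) t ^ (n - m) * y) := by
      rw [mul_sub, ← mul_assoc, ← pow_add, Nat.add_sub_cancel' h, ← hy, ← hz, map_sub]
      ring
    rw [this, map_mul, evalₐ_t_pow, zero_mul]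
  rw [evalₐ_algebraMap, Ideal.Quotient.eq_zero_iff_mem, Ideal.span_singleton_pow, Ideal.mem_span_singleton] at h1
  obtain ⟨q, hq⟩ := h1
  exact ⟨q, by rw [hq, map_pow]⟩

variable (hψ : Function.Surjective ψ) (hker : RingHom.ker ψ.toRingHom = Ideal.span (Set.range a))

include hker in
theorem pol_rep (n : ℕ) (i : Fin c) : ∃ b, pol t ψ (rep t a n i) = algebraMap R B t ^ n * b := by
  obtain ⟨y, hy⟩ := Ideal.mem_span_singleton.1 (rep_spec t a n i)
  have h0 : ψ (a i) = 0 := (hker.ge (Ideal.subset_span ⟨i, rfl⟩) : a i ∈ RingHom.ker ψ.toRingHom)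
  refine ⟨-ψ y, ?_⟩
  have := congrArg ψ hy
  rw [map_sub, h0, map_mul, map_pow, AlgHom.commutes, zero_sub] at this
  rw [pol_apply, mul_neg, ← this, neg_neg]

include hψ in
theorem pol_surj (n : ℕ) (b : B) : ∃ p b', b = pol t ψ p + algebraMap R B t ^ n * b' := by
  obtain ⟨x, rfl⟩ := hψ b
  obtain ⟨p, hp⟩ := exists_rep t n x
  obtain ⟨y, hy⟩ := Ideal.mem_span_singleton.1 hp
  refine ⟨p, ψ y, ?_⟩
  have := congrArg ψ hy
  rw [map_sub, map_mul, map_pow, AlgHom.commutes] at this
  rw [pol_apply, ← this]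
  ring

include hker hψ in
/-- kernel at a finite level -/
theorem ker_level (n : ℕ) {B' : Type u} [CommRing B'] [Algebra R B'] (μ : B →ₐ[R] B')
    (hμ : RingHom.ker μ.toRingHom = Ideal.span {algebraMap R B t ^ n}) :
    RingHom.ker (μ.comp (pol t ψ)).toRingHom =
      Ideal.span (Set.range (Sum.elim (rep t a n) fun _ : Unit => C (t ^ n))) := by
  have hzero : ∀ b, μ (algebraMap R B t ^ n * b) = 0 := fun b =>
    (hμ.ge (Ideal.mem_span_singleton.2 ⟨b, rfl⟩) : _ ∈ RingHom.ker μ.toRingHom)
  refine le_antisymm (fun p hp => ?_) (Ideal.span_le.2 ?_)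
  · have hp' : pol t ψ p ∈ RingHom.ker μ.toRingHom := hp
    rw [hμ, Ideal.mem_span_singleton] at hp'
    obtain ⟨b, hb⟩ := hp'
    obtain ⟨y, rfl⟩ := hψ b
    have hk : algebraMap _ (Rst t r) p - algebraMap R (Rst t r) t ^ n * y ∈ RingHom.ker ψ.toRingHom := by
      show ψ _ = 0
      rw [map_sub, map_mul, map_pow, AlgHom.commutes, ← pol_apply, hb, sub_self]
    rw [hker, Ideal.mem_span_range_iff_exists_fun] at hk
    obtain ⟨e, he⟩ := hk
    choose q hq using fun i => Ideal.Quotient.mk_surjective (AdicCompletion.evalₐ (Ideal.span {C (σ := Fin r) t}) n (e i))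
    have h1 : Ideal.Quotient.mk (Ideal.span {C (σ := Fin r) t} ^ n) (p - ∑ i, q i * rep t a n i) = 0 := by
      have := congrArg (AdicCompletion.evalₐ (Ideal.span {C (σ := Fin r) t}) n) he
      rw [map_sum, map_sub, map_mul (AdicCompletion.evalₐ _ n) (algebraMap R (Rst t r) t ^ n), evalₐ_t_pow,
        zero_mul, sub_zero, evalₐ_algebraMap] at this
      rw [map_sub, map_sum, ← this, sub_eq_zero]
      exact Finset.sum_congr rfl fun i _ => by simp only [map_mul, hq, evalₐ_rep]
    rw [Ideal.Quotient.eq_zero_iff_mem, Ideal.span_singleton_pow, Ideal.mem_span_singleton] at h1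
    obtain ⟨w, hw⟩ := h1
    rw [show p = ∑ i, q i * rep t a n i + C (t ^ n) * w from by rw [map_pow, ← hw]; ring]
    exact add_mem (Ideal.sum_mem _ fun i _ => Ideal.mul_mem_left _ _ (Ideal.subset_span ⟨Sum.inl i, rfl⟩))
      (Ideal.mul_mem_right _ _ (Ideal.subset_span ⟨Sum.inr (), rfl⟩))
  · rintro _ ⟨i | i, rfl⟩
    · obtain ⟨b, hb⟩ := pol_rep t ψ a hker n i
      show μ (pol t ψ (rep t a n i)) = 0
      rw [hb, hzero]
    · show μ (pol t ψ (C (t ^ n))) = 0
      rw [← MvPolynomial.algebraMap_eq, AlgHom.commutes, map_pow, ← mul_one (algebraMap R B t ^ n), hzero]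

theorem exists_jac [IsPrecomplete (Ideal.span {algebraMap R B t}) B] :
    ∃ J : Matrix (Fin c) (Fin r) B, ∀ n i j, ∃ b,
      J i j - pol t ψ (pderiv j (rep t a n i)) = algebraMap R B t ^ n * b := by
  have hC : ∀ i j, ∃ L, ∀ n, pol t ψ (pderiv j (rep t a n i)) ≡ L
      [SMOD (Ideal.span {algebraMap R B t} ^ n • ⊤ : Submodule B B)] := fun i j => by
    refine IsPrecomplete.prec inferInstance fun {m n} hmn => ?_
    obtain ⟨q, hq⟩ := rep_compat t a hmn i
    rw [SModEq.sub_mem, mem_pow_smul_top_iff]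
    refine ⟨-pol t ψ (pderiv j q), ?_⟩
    rw [← map_sub, ← map_sub, show rep t a m i - rep t a n i = -(C (t ^ m) * q) by rw [← hq, neg_sub],
      map_neg, pderiv_C_mul, map_neg, MvPolynomial.C_mul', smul_neg]
    simp [Algebra.smul_def]
  choose L hL using hC
  refine ⟨fun i j => L i j, fun n i j => ?_⟩
  have h1 := (hL i j n).symm
  rw [SModEq.sub_mem, mem_pow_smul_top_iff] at h1
  obtain ⟨b, hb⟩ := h1
  exact ⟨b, hb.symm⟩

section Level

variable {t ψ a} {J : Matrix (Fin c) (Fin r) B}
  (hJ : ∀ n i j, ∃ b, J i j - pol t ψ (pderiv j (rep t a n i)) = algebraMap R B t ^ n * b)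

include hker hψ hJ in
theorem level_presentation (n : ℕ) {B' : Type u} [CommRing B'] [Algebra R B'] (μ : B →ₐ[R] B')
    (hμs : Function.Surjective μ) (hμ : RingHom.ker μ.toRingHom = Ideal.span {algebraMap R B t ^ n}) :
    Submodule.span B' (Set.range fun j => KaehlerDifferential.D R B' (μ (pol t ψ (X j)))) = ⊤ ∧
    Groth.L13.Fitting.rel (R := B') (fun j => KaehlerDifferential.D R B' (μ (pol t ψ (X j)))) =
      Submodule.span B' (Set.range fun i => J.map μ i) := by
  have hzero : ∀ b, μ (algebraMap R B t ^ n * b) = 0 := fun b =>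
    (hμ.ge (Ideal.mem_span_singleton.2 ⟨b, rfl⟩) : _ ∈ RingHom.ker μ.toRingHom)
  have hs : Function.Surjective (μ.comp (pol t ψ)) := fun b' => by
    obtain ⟨b, rfl⟩ := hμs b'
    obtain ⟨p, b₁, rfl⟩ := pol_surj t ψ hψ n b
    exact ⟨p, by rw [map_add, hzero, add_zero]; rfl⟩
  refine ⟨span_D_eq_top (μ.comp (pol t ψ)) hs,
    (rel_D_eq (μ.comp (pol t ψ)) hs _ (ker_level t ψ a hψ hker n μ hμ)).trans ?_⟩
  have hrow : ∀ i, (fun j => (μ.comp (pol t ψ)) (pderiv j (rep t a n i))) = J.map μ i := fun i => funext fun j => by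
    obtain ⟨b, hb⟩ := hJ n i j
    have := congrArg μ hb
    rw [map_sub, hzero, sub_eq_zero] at this
    exact this.symm
  refine le_antisymm (Submodule.span_le.2 ?_) (Submodule.span_mono ?_)
  · rintro _ ⟨i | i, rfl⟩
    · exact Submodule.subset_span ⟨i, (hrow i).symm⟩
    · simp only [Sum.elim_inr, pderiv_C, map_zero]
      exact Submodule.zero_mem _
  · rintro _ ⟨i, rfl⟩
    exact ⟨Sum.inl i, hrow i⟩

/-- injectivity propagates from the closed fibre -/
theorem injective_level (ht : ∀ b : B, algebraMap R B t * b = 0 → b = 0)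
    (h0 : ∀ v : Fin c → B, (∀ j, algebraMap R B t ∣ (v ᵥ* J) j) → ∀ i, algebraMap R B t ∣ v i) :
    ∀ (m : ℕ) (v : Fin c → B), (∀ j, algebraMap R B t ^ m ∣ (v ᵥ* J) j) → ∀ i, algebraMap R B t ^ m ∣ v i := by
  intro m
  induction m with
  | zero => intro v _ i; rw [pow_zero]; exact one_dvd _
  | succ m ih =>
    intro v hv i
    choose w hw using h0 v fun j => (dvd_pow_self _ m.succ_ne_zero).trans (hv j)
    have hvw : v = algebraMap R B t • w := funext fun i => hw i
    have h1 : ∀ j, algebraMap R B t ^ m ∣ (w ᵥ* J) j := fun j => by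
      obtain ⟨e, he⟩ := hv j
      rw [hvw, Matrix.smul_vecMul, Pi.smul_apply, smul_eq_mul, pow_succ', mul_assoc] at he
      exact ⟨e, sub_eq_zero.1 (ht _ (by rw [mul_sub, he, sub_self]))⟩
    obtain ⟨e, he⟩ := ih w h1 i
    exact ⟨e, by rw [hw i, he, pow_succ', mul_assoc]⟩

end Level

section Completed

variable {t ψ a} {J : Matrix (Fin c) (Fin r) B}
  (hJ : ∀ n i j, ∃ b, J i j - pol t ψ (pderiv j (rep t a n i)) = algebraMap R B t ^ n * b)

variable [IsNoetherianRing B] [IsAdicComplete (Ideal.span {algebraMap R B t}) B]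

include hker hψ hJ in
theorem completed_presentation :
    Submodule.span B (Set.range fun j => AdicCompletion.of (Ideal.span {algebraMap R B t})
        (KaehlerDifferential R B) (KaehlerDifferential.D R B (pol t ψ (X j)))) = ⊤ ∧
    Groth.L13.Fitting.rel (R := B) (fun j => AdicCompletion.of (Ideal.span {algebraMap R B t})
        (KaehlerDifferential R B) (KaehlerDifferential.D R B (pol t ψ (X j)))) =
      Submodule.span B (Set.range fun i => J i) := by
  classical
  let s := algebraMap R B t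
  let I := Ideal.span {s}
  let Ω := KaehlerDifferential R B
  let S : (Fin r → B) → Ω := fun z => ∑ j, z j • KaehlerDifferential.D R B (pol t ψ (X j))
  have hSl : ∀ z z', S (z + z') = S z + S z' := fun z z' => by
    simp only [S, Pi.add_apply, add_smul, Finset.sum_add_distrib]
  have hSs : ∀ (b : B) z, S (b • z) = b • S z := fun b z => by
    simp only [S, Pi.smul_apply, smul_eq_mul, mul_smul, Finset.smul_sum]
  have hof : ∀ z : Fin r → B,
      ∑ j, z j • AdicCompletion.of I Ω (KaehlerDifferential.D R B (pol t ψ (X j))) = AdicCompletion.of I Ω (S z) :=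
    fun z => by simp only [S, map_sum, map_smul]
  -- relations at each level
  have hrel : ∀ (n : ℕ) (z : Fin r → B), S z ∈ (I ^ n • ⊤ : Submodule B Ω) →
      ∃ (v : Fin c → B) (w : Fin r → B), z = v ᵥ* J + s ^ n • w := by
    intro n z hz
    let B' := B ⧸ Ideal.span {s ^ n}
    let μ : B →ₐ[R] B' := Ideal.Quotient.mkₐ R _
    have hμ : RingHom.ker μ.toRingHom = Ideal.span {s ^ n} := Ideal.Quotient.mkₐ_ker R _
    obtain ⟨-, hrl⟩ := level_presentation hψ hker hJ n μ Ideal.Quotient.mk_surjective hμ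
    have h1 : (fun j => μ (z j)) ∈ Groth.L13.Fitting.rel (R := B')
        (fun j => KaehlerDifferential.D R B' (μ (pol t ψ (X j)))) := by
      rw [Groth.L13.Fitting.mem_rel]
      obtain ⟨y, hy⟩ := (mem_pow_smul_top_iff s n _).1 hz
      have h2 := congrArg (KaehlerDifferential.map R R B B') hy
      simp only [S, map_sum, map_smul, KaehlerDifferential.map_D] at h2
      rw [← algebraMap_smul B' (s ^ n) (KaehlerDifferential.map R R B B' y),
        show algebraMap B B' (s ^ n) = 0 from Ideal.Quotient.eq_zero_iff_mem.2 (Ideal.mem_span_singleton_self _),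
        zero_smul] at h2
      refine Eq.trans (Finset.sum_congr rfl fun j _ => ?_) h2.symm
      exact algebraMap_smul B' (z j) _
    rw [hrl, Submodule.mem_span_range_iff_exists_fun] at h1
    obtain ⟨v', hv'⟩ := h1
    choose v hv using fun i => Ideal.Quotient.mk_surjective (v' i)
    have h3 : ∀ j, s ^ n ∣ z j - (v ᵥ* J) j := fun j => by
      rw [← Ideal.mem_span_singleton, ← Ideal.Quotient.eq_zero_iff_mem, map_sub, sub_eq_zero]
      have h4 := congrFun hv' j
      simp only [Finset.sum_apply, Pi.smul_apply, smul_eq_mul, Matrix.map_apply] at h4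
      refine h4.symm.trans ?_
      simp only [Matrix.vecMul, dotProduct, map_sum, map_mul, hv]
      rfl
    choose w hw using h3
    exact ⟨v, w, funext fun j => by rw [Pi.add_apply, Pi.smul_apply, smul_eq_mul, ← hw j]; ring⟩
  -- rows are relations
  have hrow : ∀ (n : ℕ) (i : Fin c), S (J i) ∈ (I ^ n • ⊤ : Submodule B Ω) := by
    intro n i
    choose e he using fun j => hJ n i j
    have h1 : J i = (fun j => pol t ψ (pderiv j (rep t a n i))) + s ^ n • e := funext fun j => by
      rw [Pi.add_apply, Pi.smul_apply, smul_eq_mul, ← he j]; ring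
    obtain ⟨b, hb⟩ := pol_rep t ψ a hker n i
    rw [h1, hSl, hSs]
    refine add_mem ?_ ((mem_pow_smul_top_iff s n _).2 ⟨_, rfl⟩)
    rw [mem_pow_smul_top_iff]
    refine ⟨KaehlerDifferential.D R B b, ?_⟩
    show s ^ n • KaehlerDifferential.D R B b = ∑ j, pol t ψ (pderiv j (rep t a n i)) • _
    rw [← D_algHom, hb, ← map_pow, ← Algebra.smul_def, Derivation.map_smul, algebraMap_smul]
  have hrow' : ∀ (n : ℕ) (v : Fin c → B), S (v ᵥ* J) ∈ (I ^ n • ⊤ : Submodule B Ω) := fun n v => by
    have : v ᵥ* J = ∑ i, v i • J i := by ext j; simp [Matrix.vecMul, dotProduct, Finset.sum_apply]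
    rw [this]
    have hsum : ∀ (T : Finset (Fin c)), S (∑ i ∈ T, v i • J i) = ∑ i ∈ T, v i • S (J i) := fun T => by
      induction T using Finset.induction with
      | empty => simp [S]
      | insert i T hiT ih => rw [Finset.sum_insert hiT, Finset.sum_insert hiT, hSl, hSs, ih]
    rw [hsum]
    exact Submodule.sum_mem _ fun i _ => Submodule.smul_mem _ _ (hrow n i)
  refine ⟨?_, ?_⟩
  · refine eq_top_iff.2 fun y _ => ?_
    have happ : ∀ n, ∃ z, AdicCompletion.eval I Ω n (AdicCompletion.of I Ω (S z)) = AdicCompletion.eval I Ω n y := by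
      intro n
      obtain ⟨ω, hω⟩ := Submodule.Quotient.mk_surjective _ (AdicCompletion.eval I Ω n y)
      suffices ∃ z, ω - S z ∈ (I ^ n • ⊤ : Submodule B Ω) by
        obtain ⟨z, hz⟩ := this
        refine ⟨z, ?_⟩
        rw [AdicCompletion.eval_of, ← hω, Submodule.mkQ_apply]
        exact ((Submodule.Quotient.eq _).2 hz).symm
      have hω' : ω ∈ Submodule.span B (Set.range (KaehlerDifferential.D R B)) := by
        rw [KaehlerDifferential.span_range_derivation]; trivial
      clear hω
      induction hω' using Submodule.span_induction with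
      | mem x hx =>
        obtain ⟨b, rfl⟩ := hx
        obtain ⟨p, b', rfl⟩ := pol_surj t ψ hψ n b
        refine ⟨fun j => pol t ψ (pderiv j p), (mem_pow_smul_top_iff s n _).2 ⟨KaehlerDifferential.D R B b', ?_⟩⟩
        show _ = _ - ∑ j, pol t ψ (pderiv j p) • _
        rw [← D_algHom, map_add, add_sub_cancel_left, ← map_pow (algebraMap R B), ← Algebra.smul_def,
          Derivation.map_smul, ← algebraMap_smul B (t ^ n), map_pow]
      | zero => exact ⟨0, by simp [S]⟩
      | add x y _ _ hx hy =>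
        obtain ⟨z, hz⟩ := hx
        obtain ⟨z', hz'⟩ := hy
        exact ⟨z + z', by rw [hSl, add_sub_add_comm]; exact add_mem hz hz'⟩
      | smul b x _ hx =>
        obtain ⟨z, hz⟩ := hx
        exact ⟨b • z, by rw [hSs, ← smul_sub]; exact Submodule.smul_mem _ b hz⟩
    choose z hz using happ
    have hev : ∀ n (z' z'' : Fin r → B), S z' - S z'' ∈ (I ^ n • ⊤ : Submodule B Ω) →
        AdicCompletion.eval I Ω n (AdicCompletion.of I Ω (S z')) = AdicCompletion.eval I Ω n (AdicCompletion.of I Ω (S z'')) :=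
      fun n z' z'' h => by
        rw [AdicCompletion.eval_of, AdicCompletion.eval_of]
        exact (Submodule.Quotient.eq _).2 h
    let P : ℕ → (Fin r → B) → Prop := fun n Z =>
      AdicCompletion.eval I Ω n (AdicCompletion.of I Ω (S Z)) = AdicCompletion.eval I Ω n y
    have hstep : ∀ n Z, P n Z → ∃ Z', P (n + 1) Z' ∧ ∀ j, s ^ n ∣ Z j - Z' j := by
      intro n Z hZ
      have h1 : S (Z - z (n + 1)) ∈ (I ^ n • ⊤ : Submodule B Ω) := by
        have h2 := hz (n + 1)
        rw [AdicCompletion.eval_of] at h2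
        have h3 : AdicCompletion.eval I Ω n y = Submodule.mkQ _ (S (z (n + 1))) := by
          have h4 := congrArg (AdicCompletion.transitionMap I Ω (Nat.le_succ n)) h2
          rw [AdicCompletion.coe_eval, AdicCompletion.transitionMap_comp_eval_apply] at h4
          exact h4.symm
        have h5 : Submodule.mkQ (I ^ n • ⊤ : Submodule B Ω) (S Z) = Submodule.mkQ _ (S (z (n + 1))) := by
          rw [← h3]; exact hZ
        have h6 := (Submodule.Quotient.eq _).1 h5
        have h7 : S (Z - z (n + 1)) + S (z (n + 1)) = S Z := by rw [← hSl, sub_add_cancel]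
        rwa [eq_sub_of_add_eq h7]
      obtain ⟨v, w, hvw⟩ := hrel n _ h1
      refine ⟨z (n + 1) + v ᵥ* J, ?_, fun j => ⟨w j, ?_⟩⟩
      · refine (hev (n + 1) _ _ ?_).trans (hz (n + 1))
        rw [hSl, add_sub_cancel_left]
        exact hrow' _ v
      · have := congrFun hvw j
        simp only [Pi.sub_apply, Pi.add_apply, Pi.smul_apply, smul_eq_mul] at this ⊢
        linear_combination this
    choose next hnext1 hnext2 using hstep
    let Z : (n : ℕ) → {Z // P n Z} := fun n =>
      Nat.rec ⟨z 0, hz 0⟩ (fun k Zk => ⟨next k Zk.1 Zk.2, hnext1 k Zk.1 Zk.2⟩) n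
    have hcau : ∀ n j, s ^ n ∣ (Z n).1 j - (Z (n + 1)).1 j := fun n j => hnext2 n _ _ j
    have hL : ∀ j, ∃ L, ∀ n, (Z n).1 j ≡ L [SMOD (I ^ n • ⊤ : Submodule B B)] := fun j => by
      refine IsPrecomplete.prec inferInstance fun {m n} hmn => ?_
      rw [SModEq.sub_mem, mem_pow_smul_top_iff]
      induction n, hmn using Nat.le_induction with
      | base => exact ⟨0, by simp⟩
      | succ n hmn ih =>
        obtain ⟨e, he⟩ := ih
        obtain ⟨e', he'⟩ := hcau n j
        refine ⟨e + s ^ (n - m) * e', ?_⟩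
        rw [smul_add, he, smul_eq_mul, ← mul_assoc, ← pow_add, Nat.add_sub_cancel' hmn, ← he']
        ring
    choose L hL using hL
    rw [Submodule.mem_span_range_iff_exists_fun]
    refine ⟨L, ?_⟩
    rw [hof]
    refine AdicCompletion.ext fun n => ?_
    refine ((hev n L (Z n).1 ?_).trans (Z n).2)
    have h1 : ∀ j, s ^ n ∣ L j - (Z n).1 j := fun j => by
      have := (hL j n).symm
      rw [SModEq.sub_mem, mem_pow_smul_top_iff] at this
      obtain ⟨e, he⟩ := this
      exact ⟨e, he.symm⟩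
    choose e he using h1
    rw [show L = (Z n).1 + s ^ n • e from funext fun j => by
      rw [Pi.add_apply, Pi.smul_apply, smul_eq_mul, ← he j]; ring, hSl, hSs, add_sub_cancel_left]
    exact (mem_pow_smul_top_iff s n _).2 ⟨_, rfl⟩
  · refine le_antisymm (fun z hz => ?_) (Submodule.span_le.2 ?_)
    · rw [Groth.L13.Fitting.mem_rel, hof] at hz
      let W := Submodule.span B (Set.range fun i => J i)
      haveI : IsHausdorff I ((Fin r → B) ⧸ W) :=
        IsHausdorff.of_le_jacobson I _ (IsAdicComplete.le_jacobson_bot I)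
      rw [← Submodule.Quotient.mk_eq_zero]
      refine IsHausdorff.haus ‹_› _ fun n => ?_
      have h1 : S z ∈ (I ^ n • ⊤ : Submodule B Ω) := by
        have h2 := congrArg (AdicCompletion.eval I Ω n) hz
        rw [AdicCompletion.eval_of, map_zero, Submodule.mkQ_apply, Submodule.Quotient.mk_eq_zero] at h2
        exact h2
      obtain ⟨v, w, hvw⟩ := hrel n z h1
      rw [SModEq.zero, mem_pow_smul_top_iff]
      refine ⟨Submodule.Quotient.mk w, ?_⟩
      rw [← Submodule.Quotient.mk_smul, eq_comm, Submodule.Quotient.eq, hvw, add_sub_cancel_right,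
        Submodule.mem_span_range_iff_exists_fun]
      exact ⟨v, by ext j; simp [Matrix.vecMul, dotProduct, Finset.sum_apply]⟩
    · rintro _ ⟨i, rfl⟩
      rw [SetLike.mem_coe, Groth.L13.Fitting.mem_rel, hof]
      refine AdicCompletion.ext fun n => ?_
      exact (Submodule.Quotient.mk_eq_zero _).2 (hrow n i)

theorem injective_completed (hinj : ∀ (m : ℕ) (v : Fin c → B),
      (∀ j, algebraMap R B t ^ m ∣ (v ᵥ* J) j) → ∀ i, algebraMap R B t ^ m ∣ v i)
    (v : Fin c → B) (hv : v ᵥ* J = 0) : v = 0 := by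
  funext i
  refine IsHausdorff.haus (inferInstance : IsHausdorff (Ideal.span {algebraMap R B t}) B) _ fun n => ?_
  obtain ⟨e, he⟩ := hinj n v (fun j => by simp [hv]) i
  rw [SModEq.zero, mem_pow_smul_top_iff]
  exact ⟨e, he.symm⟩

end Completed

end Groth.L14.FormalCI
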