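import Groth.Agent.L14.FormalCI.Formal
import Mathlib.RingTheory.Flat.TorsionFree
import Mathlib.RingTheory.PowerSeries.NoZeroDivisors
import Mathlib.RingTheory.Regular.RegularSequence

/-! # `T¹` of a formal complete intersection over `k[[t]]` -/

set_option autoImplicit false
set_option linter.style.haveILetI false
set_option backward.isDefEq.respectTransparency false

universe u

open MvPolynomial Matrix TensorProduct CategoryTheory

namespace Groth.L14.FormalCI

/-- Base change of a cokernel of a matrix along a quotient map. -/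
theorem nonempty_coker_baseChange {B : Type u} [CommRing B] (I : Ideal B) {c r : ℕ} (J : Matrix (Fin c) (Fin r) B) :
    Nonempty ((B ⧸ I) ⊗[B] ((Fin c → B) ⧸ LinearMap.range J.mulVecLin) ≃ₗ[B ⧸ I]
      (Fin c → B ⧸ I) ⧸ LinearMap.range (J.map (Ideal.Quotient.mk I)).mulVecLin) := by
  classical
  let W := LinearMap.range J.mulVecLin
  let W' := LinearMap.range (J.map (Ideal.Quotient.mk I)).mulVecLin
  let ψ : (Fin c → B) →ₗ[B] (Fin c → B ⧸ I) := LinearMap.pi fun k => (Algebra.linearMap B (B ⧸ I)).comp (LinearMap.proj k)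
  have hψ : ∀ h k, ψ h k = Ideal.Quotient.mk I (h k) := fun h k => rfl
  have hψJ : ∀ w, ψ (J.mulVecLin w) = (J.map (Ideal.Quotient.mk I)).mulVecLin fun j => Ideal.Quotient.mk I (w j) :=
    fun w => funext fun k => by
      rw [hψ]
      exact RingHom.map_mulVec (Ideal.Quotient.mk I) J w k
  have hdesc : W ≤ LinearMap.ker ((W'.mkQ.restrictScalars B).comp ψ) := by
    rintro _ ⟨w, rfl⟩
    exact (Submodule.Quotient.mk_eq_zero W').2 ⟨_, (hψJ w).symm⟩
  let Φ : (B ⧸ I) ⊗[B] ((Fin c → B) ⧸ W) →ₗ[B ⧸ I] _ := LinearMap.liftBaseChange (B ⧸ I) (W.liftQ _ hdesc)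
  have hΦ : ∀ h, Φ (1 ⊗ₜ Submodule.Quotient.mk h) = W'.mkQ (ψ h) := fun h => by simp [Φ]
  refine ⟨LinearEquiv.ofBijective Φ ⟨?_, ?_⟩⟩
  · rw [injective_iff_map_eq_zero]
    intro z hz
    obtain ⟨q, rfl⟩ := TensorProduct.mk_surjective B _ (B ⧸ I) Ideal.Quotient.mk_surjective z
    obtain ⟨h, rfl⟩ := Submodule.Quotient.mk_surjective _ q
    rw [TensorProduct.mk_apply, hΦ, Submodule.mkQ_apply, Submodule.Quotient.mk_eq_zero] at hz
    obtain ⟨w', hw'⟩ := hz
    choose w hw using fun j => Ideal.Quotient.mk_surjective (w' j)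
    have hmem : ∀ k, (h - J.mulVecLin w) k ∈ I := fun k => by
      rw [← Ideal.Quotient.eq_zero_iff_mem, ← hψ, map_sub, hψJ, show (fun j => Ideal.Quotient.mk I (w j)) = w'
        from funext hw, hw', sub_self]
      rfl
    have hmk : (Submodule.Quotient.mk h : (Fin c → B) ⧸ W) = Submodule.Quotient.mk (h - J.mulVecLin w) :=
      (Submodule.Quotient.eq _).2 ⟨w, by abel⟩
    rw [TensorProduct.mk_apply, hmk, pi_eq_sum_univ' (h - J.mulVecLin w), ← Submodule.mkQ_apply, map_sum,
      TensorProduct.tmul_sum]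
    refine Finset.sum_eq_zero fun k _ => ?_
    rw [map_smul, TensorProduct.tmul_smul, TensorProduct.smul_tmul', Algebra.smul_def, mul_one,
      Ideal.Quotient.algebraMap_eq, Ideal.Quotient.eq_zero_iff_mem.2 (hmem k), TensorProduct.zero_tmul]
  · intro z
    obtain ⟨h', rfl⟩ := Submodule.Quotient.mk_surjective W' z
    choose h hh using fun k => Ideal.Quotient.mk_surjective (h' k)
    refine ⟨1 ⊗ₜ Submodule.Quotient.mk h, ?_⟩
    rw [hΦ, show ψ h = h' from funext fun k => (hψ h k).trans (hh k)]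
    rfl

variable {k : Type u} [Field k] {r c : ℕ} {B : Type u} [CommRing B] [Algebra (PowerSeries k) B]
  (ψ : Rst (PowerSeries.X (R := k)) r →ₐ[PowerSeries k] B) (a : Fin c → Rst (PowerSeries.X (R := k)) r)

/-- injectivity of the Jacobian at every level -/
theorem injective_levels [PerfectField k] [Module.Flat (PowerSeries k) B] (hψ : Function.Surjective ψ)
    (hker : RingHom.ker ψ.toRingHom = Ideal.span (Set.range a))
    (hreg : RingTheory.Sequence.IsWeaklyRegular
      (Rst (PowerSeries.X (R := k)) r ⧸ Ideal.span {algebraMap (PowerSeries k) (Rst (PowerSeries.X (R := k)) r) PowerSeries.X ^ (0 + 1)})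
      ((List.ofFn a).map (Ideal.Quotient.mk
        (Ideal.span {algebraMap (PowerSeries k) (Rst (PowerSeries.X (R := k)) r) PowerSeries.X ^ (0 + 1)}))))
    [IsReduced (B ⧸ Ideal.span {algebraMap (PowerSeries k) B PowerSeries.X})]
    {J : Matrix (Fin c) (Fin r) B}
    (hJ : ∀ n i j, ∃ b, J i j - pol PowerSeries.X ψ (pderiv j (rep PowerSeries.X a n i)) =
      algebraMap (PowerSeries k) B PowerSeries.X ^ n * b)
    (m : ℕ) (v : Fin c → B) (hv : ∀ j, algebraMap (PowerSeries k) B PowerSeries.X ^ m ∣ (v ᵥ* J) j) :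
    ∀ i, algebraMap (PowerSeries k) B PowerSeries.X ^ m ∣ v i := by
  classical
  refine injective_level (J := J) (fun b hb => ?_) ?_ m v hv
  · have h1 : IsSMulRegular B (PowerSeries.X : PowerSeries k) :=
      Module.Flat.isSMulRegular_of_isRegular (IsRegular.of_ne_zero PowerSeries.X_ne_zero)
    exact h1 (show (PowerSeries.X : PowerSeries k) • b = (PowerSeries.X : PowerSeries k) • (0 : B) by
      rw [smul_zero, Algebra.smul_def, hb])
  let t : PowerSeries k := PowerSeries.X
  let s := algebraMap (PowerSeries k) B t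
  let θ : MvPolynomial (Fin r) (PowerSeries k) →+* MvPolynomial (Fin r) k := MvPolynomial.map PowerSeries.constantCoeff
  have hθs : Function.Surjective θ :=
    MvPolynomial.map_surjective _ fun x => ⟨PowerSeries.C x, PowerSeries.constantCoeff_C x⟩
  have hθk : ∀ p, θ p = 0 → p ∈ Ideal.span {C (σ := Fin r) t} ^ 1 := fun p hp => by
    rw [pow_one, Ideal.mem_span_singleton, MvPolynomial.C_dvd_iff_dvd_coeff]
    intro e
    rw [PowerSeries.X_dvd_iff]
    have := congrArg (MvPolynomial.coeff e) hp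
    rwa [MvPolynomial.coeff_map, MvPolynomial.coeff_zero] at this
  have hθI : ∀ p ∈ Ideal.span {C (σ := Fin r) t} ^ 1, θ p = 0 := fun p hp => by
    rw [pow_one, Ideal.mem_span_singleton] at hp
    obtain ⟨q, rfl⟩ := hp
    simp [θ, t]
  let Θ : Rst t r →+* MvPolynomial (Fin r) k :=
    (Ideal.Quotient.lift _ θ hθI).comp (AdicCompletion.evalₐ (Ideal.span {C (σ := Fin r) t}) 1).toRingHom
  have hΘ : ∀ x p, Ideal.Quotient.mk _ p = AdicCompletion.evalₐ (Ideal.span {C (σ := Fin r) t}) 1 x → Θ x = θ p :=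
    fun x p hp => by
      show Ideal.Quotient.lift _ θ hθI (AdicCompletion.evalₐ _ 1 x) = _
      rw [← hp]; rfl
  have hΘs : Function.Surjective Θ := fun q => by
    obtain ⟨p, rfl⟩ := hθs q
    exact ⟨algebraMap _ (Rst t r) p, hΘ _ p (evalₐ_algebraMap t 1 p).symm⟩
  have hΘk : RingHom.ker Θ = Ideal.span {algebraMap (PowerSeries k) (Rst t r) t ^ (0 + 1)} := by
    refine le_antisymm (fun x hx => ?_) ((Ideal.span_singleton_le_iff_mem _).2 ?_)
    · obtain ⟨p, hp⟩ := Ideal.Quotient.mk_surjective (AdicCompletion.evalₐ (Ideal.span {C (σ := Fin r) t}) 1 x)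
      refine mem_span_of_evalₐ_eq_zero t ?_
      rw [← hp, Ideal.Quotient.eq_zero_iff_mem]
      exact hθk p ((hΘ x p hp).symm.trans hx)
    · show Θ _ = 0
      rw [hΘ _ 0 (by rw [map_zero, zero_add, evalₐ_t_pow]), map_zero]
  let abar : Fin c → MvPolynomial (Fin r) k := fun i => θ (rep t a 1 i)
  have hweak : RingTheory.Sequence.IsWeaklyRegular (MvPolynomial (Fin r) k) (List.ofFn abar) := by
    let e := (Ideal.quotEquivOfEq hΘk.symm).trans (RingHom.quotientKerEquivOfSurjective hΘs)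
    have he : ∀ x, e (Ideal.Quotient.mk _ x) = Θ x := fun x => rfl
    have h2 : List.Forall₂ (fun x (y : MvPolynomial (Fin r) k) => ∀ z, e.toAddEquiv (x • z) = y • e.toAddEquiv z)
        ((List.ofFn a).map (Ideal.Quotient.mk
          (Ideal.span {algebraMap (PowerSeries k) (Rst t r) t ^ (0 + 1)}))) ((List.ofFn a).map Θ) :=
      List.forall₂_map_right_iff.2 (List.forall₂_map_left_iff.2 (List.forall₂_same.2 fun x _ z => by
        show e (_ * z) = _ * e z
        rw [map_mul, he]))
    have h3 := (AddEquiv.isWeaklyRegular_congr h2).1 hreg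
    rwa [List.map_ofFn, show Θ ∘ a = abar from funext fun i => hΘ _ _ (evalₐ_rep t a 1 i).symm] at h3
  let B₀ := B ⧸ Ideal.span {s}
  letI : Algebra k B₀ :=
    (((Ideal.Quotient.mk (Ideal.span {s})).comp (algebraMap (PowerSeries k) B)).comp PowerSeries.C).toAlgebra
  let φ₀ : MvPolynomial (Fin r) k →ₐ[k] B₀ := MvPolynomial.aeval fun j => Ideal.Quotient.mk _ (pol t ψ (X j))
  have hcc : ∀ f : PowerSeries k, Ideal.Quotient.mk (Ideal.span {s}) (algebraMap (PowerSeries k) B f) =
      algebraMap k B₀ (PowerSeries.constantCoeff f) := fun f => by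
    obtain ⟨g, hg⟩ : (PowerSeries.X : PowerSeries k) ∣ f - PowerSeries.C (PowerSeries.constantCoeff f) :=
      PowerSeries.X_dvd_iff.2 (by simp)
    refine Ideal.Quotient.eq.2 (Ideal.mem_span_singleton.2 ⟨algebraMap (PowerSeries k) B g, ?_⟩)
    rw [← map_sub, hg, map_mul]
  have hcomp : ∀ p, φ₀ (θ p) = Ideal.Quotient.mk _ (pol t ψ p) := by
    have h : φ₀.toRingHom.comp θ = (Ideal.Quotient.mk _).comp (pol t ψ).toRingHom := by
      refine MvPolynomial.ringHom_ext (fun f => ?_) fun j => ?_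
      · show φ₀ (θ (C f)) = Ideal.Quotient.mk _ (pol t ψ (C f))
        rw [MvPolynomial.map_C, MvPolynomial.aeval_C, ← MvPolynomial.algebraMap_eq, AlgHom.commutes, hcc]
      · show φ₀ (θ (X j)) = Ideal.Quotient.mk _ (pol t ψ (X j))
        rw [MvPolynomial.map_X, MvPolynomial.aeval_X]
    exact fun p => RingHom.congr_fun h p
  have hφs : Function.Surjective φ₀ := fun q => by
    obtain ⟨b, rfl⟩ := Ideal.Quotient.mk_surjective q
    obtain ⟨p, b', rfl⟩ := pol_surj t ψ hψ 1 b
    refine ⟨θ p, ?_⟩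
    rw [hcomp, map_add, Ideal.Quotient.eq_zero_iff_mem.2 (Ideal.mem_span_singleton.2
      ⟨b', by rw [pow_one]⟩ : algebraMap (PowerSeries k) B t ^ 1 * b' ∈ Ideal.span {s}), add_zero]
  have hφk : RingHom.ker φ₀.toRingHom = Ideal.span (Set.range abar) := by
    have hμ : RingHom.ker (Ideal.Quotient.mkₐ (PowerSeries k) (Ideal.span {s})).toRingHom =
        Ideal.span {algebraMap (PowerSeries k) B t ^ 1} := by
      rw [pow_one]
      exact Ideal.Quotient.mkₐ_ker (PowerSeries k) _
    refine le_antisymm (fun q hq => ?_) (Ideal.span_le.2 ?_)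
    · obtain ⟨p, rfl⟩ := hθs q
      have hp : p ∈ RingHom.ker ((Ideal.Quotient.mkₐ (PowerSeries k) (Ideal.span {s})).comp (pol t ψ)).toRingHom :=
        (hcomp p).symm.trans hq
      rw [ker_level t ψ a hψ hker 1 _ hμ] at hp
      have h4 := Ideal.mem_map_of_mem θ hp
      rw [Ideal.map_span, ← Set.range_comp] at h4
      refine Ideal.span_le.2 ?_ h4
      rintro _ ⟨i | i, rfl⟩
      · exact Ideal.subset_span ⟨i, rfl⟩
      · rw [Function.comp_apply, Sum.elim_inr, SetLike.mem_coe]
        rw [show θ (C (t ^ 1)) = 0 by simp [θ, t]]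
        exact zero_mem _
    · rintro _ ⟨i, rfl⟩
      obtain ⟨b, hb⟩ := pol_rep t ψ a hker 1 i
      show φ₀ (θ (rep t a 1 i)) = 0
      rw [hcomp, hb, Ideal.Quotient.eq_zero_iff_mem, pow_one]
      exact Ideal.mul_mem_right _ _ (Ideal.mem_span_singleton_self _)
  intro w hw
  have h5 := jacobian_injective φ₀ hφs abar hweak hφk (fun i => Ideal.Quotient.mk _ (w i)) fun j => by
    have h6 : Ideal.Quotient.mk (Ideal.span {s}) ((w ᵥ* J) j) = 0 :=
      Ideal.Quotient.eq_zero_iff_mem.2 (Ideal.mem_span_singleton.2 (hw j))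
    rw [← h6]
    simp only [Matrix.vecMul, dotProduct, map_sum, map_mul]
    refine Finset.sum_congr rfl fun i _ => ?_
    obtain ⟨b, hb⟩ := hJ 1 i j
    rw [show abar i = θ (rep t a 1 i) from rfl, MvPolynomial.pderiv_map, hcomp]
    refine congrArg _ (Ideal.Quotient.eq.2 (Ideal.mem_span_singleton.2 ⟨-b, ?_⟩))
    rw [← neg_sub, hb, pow_one, mul_neg]
  intro i
  exact Ideal.mem_span_singleton.1 (Ideal.Quotient.eq_zero_iff_mem.1 (congrFun h5 i))

end Groth.L14.FormalCI
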